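import Cfsg.Agent.BG.B9
import Cfsg.Agent.Known.SubA8
import Cfsg.Agent.Chev.FF
import Cfsg.Agent.Invol.Count
import Cfsg.Agent.Classical.SmallIso

/-! Overgroups of `SL₂(q)` on its natural module. -/

set_option autoImplicit false
set_option linter.unusedSectionVars false

namespace CF.NatL

open Subgroup CF.BG Matrix
open scoped MatrixGroups

variable {F : Type*} [Field F] {H : Type*} [Group H] [DistribMulAction H (Fin 2 → F)]

theorem exists_SL {u : Fin 2 → F} (hu : u ≠ 0) : ∃ A : SL(2, F), A.1 *ᵥ u = ![1, 0] := by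
  by_cases h0 : u 0 = 0
  · have h1 : u 1 ≠ 0 := fun h1 => hu (by ext i; fin_cases i <;> simp [h0, h1])
    refine ⟨⟨!![0, (u 1)⁻¹; -u 1, 0], by simp [Matrix.det_fin_two, h1]⟩, ?_⟩
    ext i
    fin_cases i <;> simp [Matrix.mulVec, dotProduct, h0, h1]
  · refine ⟨⟨!![(u 0)⁻¹, 0; -u 1, u 0], by simp [Matrix.det_fin_two, h0]⟩, ?_⟩
    ext i
    fin_cases i <;> simp [Matrix.mulVec, dotProduct, h0, mul_comm]

/-- fixed vectors -/
def fx (F : Type*) [Field F] [DistribMulAction H (Fin 2 → F)] (B : Subgroup H) :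
    AddSubgroup (Fin 2 → F) where
  carrier := {v | ∀ b ∈ B, b • v = v}
  zero_mem' b _ := smul_zero b
  add_mem' hu hv b hb := by rw [smul_add, hu b hb, hv b hb]
  neg_mem' hu b hb := by rw [smul_neg, hu b hb]

theorem smul_mem_fx {B : Subgroup H} {g : H} {v : Fin 2 → F} : g • v ∈ fx F (cj g B) ↔ v ∈ fx F B := by
  refine ⟨fun h b hb => ?_, fun h b hb => ?_⟩
  · have := h _ (conj_mem_cj.2 hb)
    rwa [mul_smul, mul_smul, inv_smul_smul, smul_left_cancel_iff] at this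
  · obtain ⟨a, ha, rfl⟩ := mem_cj_iff.1 hb
    rw [mul_smul, mul_smul, inv_smul_smul, h a ha]

/-- a root subgroup: quadratic, regular on the cosets of its axis -/
structure Rt (F : Type*) [Field F] [DistribMulAction H (Fin 2 → F)] (B : Subgroup H) : Prop where
  fix : ∀ b ∈ B, b ≠ 1 → ∀ v, b • v = v → v ∈ fx F B
  quad : ∀ b ∈ B, ∀ v, b • v - v ∈ fx F B
  reg : ∀ w ∉ fx F B, ∀ u ∈ fx F B, ∃ b ∈ B, b • w - w = u

theorem Rt.cj {B : Subgroup H} (h : Rt F B) (g : H) : Rt F (cj g B) := by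
  refine ⟨fun b hb b1 v e => ?_, fun b hb v => ?_, fun w hw u hu => ?_⟩
  · obtain ⟨a, ha, rfl⟩ := mem_cj_iff.1 hb
    rw [← smul_inv_smul g v, smul_mem_fx]
    refine h.fix a ha (fun k => b1 (by simp [k])) _ ?_
    rw [mul_smul, mul_smul, smul_eq_iff_eq_inv_smul] at e
    exact e
  · obtain ⟨a, ha, rfl⟩ := mem_cj_iff.1 hb
    have := (smul_mem_fx (g := g)).2 (h.quad a ha (g⁻¹ • v))
    rwa [smul_sub, smul_inv_smul, ← mul_smul, ← mul_smul] at this
  · rw [← smul_inv_smul g w, smul_mem_fx] at hw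
    rw [← smul_inv_smul g u, smul_mem_fx] at hu
    obtain ⟨b, hb, e⟩ := h.reg _ hw _ hu
    exact ⟨_, conj_mem_cj.2 hb, by rw [← smul_inv_smul g u, ← e, smul_sub, smul_inv_smul, mul_smul, mul_smul]⟩

variable [FaithfulSMul H (Fin 2 → F)] {ι : SL(2, F) →* H}

/-- `ι` is the natural action -/
def Nt (ι : SL(2, F) →* H) : Prop := ∀ l v, ι l • v = l.1 *ᵥ v

/-- upper unitriangular matrices -/
def tv (c : F) : SL(2, F) := SpecialLinearGroup.transvection (zero_ne_one' (Fin 2)) c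

theorem tv_mulVec (c : F) (v : Fin 2 → F) : (tv c).1 *ᵥ v = v + ![c * v 1, 0] := by
  ext i
  fin_cases i <;> simp [tv, SpecialLinearGroup.transvection_coe, Matrix.mulVec, dotProduct, one_apply]

/-- the Weyl element -/
def ww (F : Type*) [Field F] : SL(2, F) := ⟨!![0, 1; -1, 0], by simp [det_fin_two]⟩

theorem ww_mulVec (v : Fin 2 → F) : (ww F).1 *ᵥ v = ![v 1, -v 0] := by
  ext i; fin_cases i <;> simp [ww, Matrix.mulVec, dotProduct]

/-- the root subgroup -/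
def AA (F : Type*) [Field F] [DistribMulAction H (Fin 2 → F)] : Subgroup H where
  carrier := {x | ∃ c : F, ∀ v : Fin 2 → F, x • v = v + ![c * v 1, 0]}
  one_mem' := ⟨0, fun v => by ext i; fin_cases i <;> simp⟩
  mul_mem' := by
    rintro a b ⟨c, hc⟩ ⟨d, hd⟩
    refine ⟨c + d, fun v => ?_⟩
    rw [mul_smul, hd, hc]
    ext i; fin_cases i <;> simp [vecHead, vecTail]; ring
  inv_mem' := by
    rintro a ⟨c, hc⟩
    refine ⟨-c, fun v => ?_⟩
    rw [inv_smul_eq_iff, hc]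
    ext i; fin_cases i <;> simp [vecHead, vecTail]

variable (h : Nt ι)
include h

theorem Nt.tv_smul (c : F) (v : Fin 2 → F) : ι (tv c) • v = v + ![c * v 1, 0] := by
  rw [h, tv_mulVec]

theorem Nt.mem_AA {x : H} : x ∈ AA F ↔ ∃ c, ι (tv c) = x :=
  ⟨fun ⟨c, e⟩ => ⟨c, eq_of_smul_eq_smul fun v : Fin 2 → F => by rw [h.tv_smul, e]⟩,
    fun ⟨c, e⟩ => ⟨c, e ▸ h.tv_smul c⟩⟩

theorem Nt.AA_le : AA F ≤ ι.range := fun _ hx => let ⟨_, e⟩ := h.mem_AA.1 hx; ⟨_, e⟩

theorem Nt.inj : Function.Injective ι := fun a b e => Subtype.ext (by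
  have : ∀ v, a.1 *ᵥ v = b.1 *ᵥ v := fun v => by rw [← h, ← h, e]
  exact Matrix.toLin'.injective (LinearMap.ext this))

theorem Nt.card_AA : ♯(AA F : Subgroup H) = Nat.card F := by
  refine (Nat.card_congr (Equiv.ofBijective (fun c : F => (⟨ι (tv c), h.mem_AA.2 ⟨c, rfl⟩⟩ : AA F))
    ⟨fun a b e => ?_, fun x => ?_⟩)).symm
  · have := congrFun ((h.tv_smul a ![0, 1]).symm.trans
      ((congrArg (fun x : AA F => (x : H) • (![0, 1] : Fin 2 → F)) e).trans (h.tv_smul b _))) 0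
    simpa using this
  · obtain ⟨c, e⟩ := h.mem_AA.1 x.2
    exact ⟨c, Subtype.ext e⟩

theorem Nt.mem_fx {v : Fin 2 → F} : v ∈ fx F (AA F : Subgroup H) ↔ v 1 = 0 := by
  refine ⟨fun k => ?_, fun k b ⟨c, e⟩ => by rw [e, k]; ext i; fin_cases i <;> simp⟩
  have := congrFun ((h.tv_smul 1 v).symm.trans (k _ (h.mem_AA.2 ⟨1, rfl⟩))) 0
  simpa using this

theorem Nt.card_fx : Nat.card (fx F (AA F : Subgroup H)) = Nat.card F :=
  Nat.card_congr ⟨fun v => v.1 0, fun c => ⟨![c, 0], h.mem_fx.2 rfl⟩, fun v => Subtype.ext (by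
    have := h.mem_fx.1 v.2
    ext i; fin_cases i <;> simp [this]), fun _ => rfl⟩

theorem Nt.rt : Rt F (AA F : Subgroup H) := by
  refine ⟨fun b ⟨c, e⟩ b1 v k => h.mem_fx.2 ?_, fun b ⟨c, e⟩ v => h.mem_fx.2 (by simp [e, vecHead, vecTail]),
    fun w hw u hu => ⟨_, h.mem_AA.2 ⟨u 0 / w 1, rfl⟩, ?_⟩⟩
  · have c0 : c ≠ 0 := fun j => b1 (eq_of_smul_eq_smul fun v : Fin 2 → F => by
      rw [e, j, one_smul]; ext i; fin_cases i <;> simp)
    have := congrFun ((e v).symm.trans k) 0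
    simpa [c0] using this
  · rw [h.mem_fx] at hw hu
    rw [h.tv_smul]
    ext i; fin_cases i <;> simp [hw, hu, vecHead, vecTail]

theorem Nt.schur (f : (Fin 2 → F) →+ (Fin 2 → F)) (hf : ∀ l v, f (ι l • v) = ι l • f v) :
    ∃ c : F, ∀ v, f v = c • v := by
  have e1 : ∀ a : F, f ![a, 0] 1 = 0 := fun a => h.mem_fx.1 fun b hb => by
    obtain ⟨c, rfl⟩ := h.mem_AA.1 hb
    rw [← hf, (h.mem_fx.2 (show (![a, 0] : Fin 2 → F) 1 = 0 from rfl)) _ hb]
  have w : ∀ v : Fin 2 → F, ι (ww F) • v = ![v 1, -v 0] := fun v => by rw [h, ww_mulVec]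
  have e2 : ∀ a : F, f ![0, a] = ![0, f ![a, 0] 0] := fun a => by
    have := hf (ww F) ![0, a]
    rw [w, w] at this
    have h0 := congrFun this 0
    have h1 := congrFun this 1
    have h2 := e1 a
    simp only [cons_val_zero, cons_val_one, neg_zero] at h0 h1
    ext i; fin_cases i
    · simpa [h2] using h1
    · simpa using h0.symm
  have e3 : ∀ t : F, f ![t, 0] 0 = t * f ![1, 0] 0 := fun t => by
    have := congrFun (hf (tv t) ![0, 1]) 0
    rw [h.tv_smul, h.tv_smul, map_add, e2] at this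
    simpa using this
  refine ⟨f ![1, 0] 0, fun v => ?_⟩
  have : v = ![v 0, 0] + ![0, v 1] := by ext i; fin_cases i <;> simp
  rw [this, map_add, e2]
  ext i; fin_cases i
  · simp [e3 (v 0), mul_comm]
  · simp [e1, e3 (v 1), mul_comm]

omit h in
/-- `x` is `σ`-semilinear -/
def Sem (x : H) (σ : F → F) : Prop := ∀ (c : F) (v : Fin 2 → F), x • c • v = σ c • x • v

omit h in
theorem Sem.unique {x : H} {σ τ : F → F} (a : Sem x σ) (b : Sem x τ) : σ = τ := funext fun c => by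
  have := congrFun (((a c (x⁻¹ • ![1, 0])).symm.trans (b c _))) 0
  simpa using this

theorem Nt.exists_sem {x : H} (hx : x ∈ 𝐍 ι.range) : ∃ σ : F → F, Sem x σ := by
  have : ∀ c : F, ∃ d : F, ∀ v : Fin 2 → F, x • c • x⁻¹ • v = d • v := fun c => by
    refine h.schur (AddMonoidHom.mk' (fun v => x • c • x⁻¹ • v) fun u v => by simp only [smul_add])
      fun l v => ?_
    obtain ⟨m, e⟩ := conj_mem_of_norm' hx ⟨l, rfl⟩
    have k : ι l = x * ι m * x⁻¹ := by rw [e]; group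
    simp only [AddMonoidHom.mk'_apply]
    rw [k, mul_smul, mul_smul, mul_smul, mul_smul, inv_smul_smul, inv_smul_smul, h, h, mulVec_smul]
  choose σ hσ using this
  exact ⟨σ, fun c v => by rw [← hσ, inv_smul_smul]⟩

theorem Nt.exists_sem' {x : H} (hx : x ∈ 𝐍 ι.range) : ∃ σ : RingAut F, Sem x σ := by
  obtain ⟨σ, a⟩ := h.exists_sem hx
  obtain ⟨τ, b⟩ := h.exists_sem (inv_mem hx)
  have k : ∀ {c d : F}, c • (![1, 0] : Fin 2 → F) = d • ![1, 0] → c = d := fun e => by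
    simpa using congrFun e 0
  have h1 : ∀ c, τ (σ c) = c := fun c => k (by
    conv_lhs => rw [← inv_smul_smul x ![1, 0], ← b, ← a, inv_smul_smul])
  have h2 : ∀ c, σ (τ c) = c := fun c => k (by
    conv_lhs => rw [← smul_inv_smul x ![1, 0], ← a, ← b, smul_inv_smul])
  have h3 : ∀ c d, σ (c * d) = σ c * σ d := fun c d => k (by
    conv_lhs => rw [← smul_inv_smul x ![1, 0], ← a, mul_smul, a, a, smul_inv_smul, ← mul_smul])
  have h4 : ∀ c d, σ (c + d) = σ c + σ d := fun c d => k (by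
    conv_lhs => rw [← smul_inv_smul x ![1, 0], ← a, add_smul, smul_add, a, a, smul_inv_smul,
      ← add_smul])
  exact ⟨⟨⟨σ, τ, h1, h2⟩, h3, h4⟩, a⟩

theorem Nt.exists_sig : ∃ s : ↥(𝐍 ι.range) →* RingAut F, ∀ x : ↥(𝐍 ι.range), Sem (x : H) (s x) := by
  choose s hs using fun x : ↥(𝐍 ι.range) => h.exists_sem' x.2
  refine ⟨MonoidHom.mk' s fun x y => DFunLike.ext' ((hs _).unique fun c v => ?_), hs⟩
  rw [coe_mul, mul_smul, hs, hs, mul_smul]
  rfl

theorem Nt.mem_of_lin {p k : ℕ} [Fact p.Prime] [CharP F p] {x : H} (a : Sem x (id : F → F))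
    (e : x ^ p ^ k = 1) : x ∈ ι.range := by
  let f : (Fin 2 → F) →ₗ[F] (Fin 2 → F) := ⟨⟨fun v => x • v, smul_add x⟩, a⟩
  have pw : ∀ n v, (f ^ n) v = x ^ n • v := fun n => by
    induction n with
    | zero => simp
    | succ n ih => intro v; rw [pow_succ, pow_succ, Module.End.mul_apply, ih, mul_smul]; rfl
  have f1 : f ^ p ^ k = 1 := LinearMap.ext fun v => by rw [pw, e, one_smul]; rfl
  have d : LinearMap.det f = 1 := by
    have := sub_pow_char_pow (LinearMap.det f) 1 (p := p) (n := k)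
    rw [← map_pow, f1, map_one, one_pow, sub_self] at this
    exact sub_eq_zero.1 (pow_eq_zero_iff (pow_ne_zero _ (Fact.out : p.Prime).ne_zero) |>.1 this)
  exact ⟨⟨LinearMap.toMatrix' f, by rw [LinearMap.det_toMatrix', d]⟩,
    eq_of_smul_eq_smul fun v : Fin 2 → F => (h _ v).trans (LinearMap.toMatrix'_mulVec f v)⟩

end CF.NatL
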