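import Cfsg.Agent.NatL.A

/-! Overgroups of `SL₂(q)` on its natural module: the root subgroups. -/

set_option autoImplicit false
set_option linter.unusedSectionVars false

namespace CF.NatL

open Subgroup CF.BG Matrix
open scoped MatrixGroups

variable {F : Type*} [Field F] {H : Type*} [Group H] [DistribMulAction H (Fin 2 → F)]
  {B S T : Subgroup H} {g x : H}

/-- elations with a given axis -/
def EE (U : AddSubgroup (Fin 2 → F)) : Subgroup H where
  carrier := {x | (∀ v, x • v - v ∈ U) ∧ ∀ u ∈ U, x • u = u}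
  one_mem' := ⟨fun v => by simp, fun u _ => one_smul _ u⟩
  mul_mem' {a b} ha hb := ⟨fun v => by
    rw [mul_smul, ← sub_add_sub_cancel _ (b • v)]; exact add_mem (ha.1 _) (hb.1 _),
    fun u hu => by rw [mul_smul, hb.2 u hu, ha.2 u hu]⟩
  inv_mem' {a} ha := ⟨fun v => by
    have := neg_mem (ha.1 (a⁻¹ • v))
    rwa [smul_inv_smul, neg_sub] at this, fun u hu => by rw [inv_smul_eq_iff, ha.2 u hu]⟩

theorem Rt.le_EE (h : Rt F B) : B ≤ EE (fx F B) := fun b hb => ⟨h.quad b hb, fun _ hu => hu b hb⟩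

theorem card_fx_cj (g : H) (B : Subgroup H) : Nat.card (fx F (cj g B)) = Nat.card (fx F B) :=
  (Nat.card_congr ⟨fun v => ⟨g • v.1, smul_mem_fx.2 v.2⟩, fun v => ⟨g⁻¹ • v.1,
    (smul_mem_fx (g := g)).1 (by rw [smul_inv_smul]; exact v.2)⟩,
    fun v => Subtype.ext (inv_smul_smul g v.1), fun v => Subtype.ext (smul_inv_smul g v.1)⟩).symm

variable [FaithfulSMul H (Fin 2 → F)] {p : ℕ} [hp : Fact p.Prime] [CharP F p]

theorem EE_pow {U : AddSubgroup (Fin 2 → F)} (hx : x ∈ EE U) : x ^ p = 1 := by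
  have k : ∀ (n : ℕ) (v : Fin 2 → F), x ^ n • v = v + n • (x • v - v) := fun n v => by
    induction n with
    | zero => simp
    | succ n ih => rw [pow_succ', mul_smul, ih, smul_add, hx.2 _ (nsmul_mem (hx.1 v) n), succ_nsmul]; abel
  refine eq_of_smul_eq_smul fun v : Fin 2 → F => ?_
  rw [k, one_smul, ← Nat.cast_smul_eq_nsmul F, CharP.cast_eq_zero, zero_smul, add_zero]

variable [Finite H] [Fintype F] {ι : SL(2, F) →* H}

theorem EE_pi (U : AddSubgroup (Fin 2 → F)) : PiGrp {p} (EE U : Subgroup H) :=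
  piGrp_of_forall_elt fun _ hx => piElt_of_pow_eq_one hp.out (EE_pow hx)

/-- the setup -/
structure St (p : ℕ) (ι : SL(2, F) →* H) (S : Subgroup H) : Prop where
  nt : Nt ι
  syl : Syl p S ⊤
  norm : S ≤ 𝐍 ι.range
  le : AA F ≤ S

theorem Nt.card_range (h : Nt ι) : ♯ι.range = Nat.card F * (Nat.card F ^ 2 - 1) := by
  rw [← Nat.card_congr (MonoidHom.ofInjective h.inj).toEquiv, Classical.card_SL_two,
    Nat.card_eq_fintype_card]

theorem Nt.syl (h : Nt ι) : Syl p (AA F) ι.range := by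
  refine syl_mk hp.out h.AA_le ((EE_pi _).le h.rt.le_EE) fun d => ?_
  have e := card_mul_relIndex h.AA_le
  rw [h.card_AA, h.card_range, mul_right_inj' Nat.card_pos.ne'] at e
  obtain ⟨n, -, hn⟩ := FiniteField.card F p
  rw [e, Nat.card_eq_fintype_card, hn] at d
  have := (Nat.dvd_sub_iff_right (Nat.one_le_pow _ _ (pow_pos hp.out.pos _))
    ((dvd_pow_self p n.ne_zero).trans (dvd_pow_self _ two_ne_zero))).1 d
  exact hp.out.one_lt.ne' (Nat.dvd_one.1 this)

namespace St
variable (h : St p ι S)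
include h

theorem inf : S ⊓ ι.range = AA F :=
  (h.nt.syl.eq_of_le (le_inf h.le h.nt.AA_le) inf_le_right h.syl.pi.inf_left).symm

theorem mem_of_lin (hx : x ∈ S) (a : Sem x (id : F → F)) : x ∈ AA F := by
  obtain ⟨k, e⟩ := (h.syl.pi.elt hx).exists_pow (orderOf_pos x).ne'
  exact h.inf.le ⟨hx, h.nt.mem_of_lin a (p := p) (k := k) (e ▸ pow_orderOf_eq_one x)⟩

theorem mem_of_fix (hx : x ∈ S) (a : ∀ u ∈ fx F (AA F : Subgroup H), x • u = u) : x ∈ AA F := by
  obtain ⟨σ, k⟩ := h.nt.exists_sem (h.norm hx)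
  refine h.mem_of_lin hx ((funext fun c => ?_ : σ = id) ▸ k)
  have := k c ![1, 0]
  rw [a _ (h.nt.mem_fx.2 (by simp)), a _ (h.nt.mem_fx.2 rfl)] at this
  simpa using (congrFun this 0).symm

theorem exists_hom : ∃ s : S →* RingAut F, s.ker ≤ (AA F).subgroupOf S := by
  obtain ⟨s, hs⟩ := h.nt.exists_sig
  refine ⟨s.comp (inclusion h.norm), fun x hx => h.mem_of_lin x.2 ?_⟩
  have := hs (inclusion h.norm x)
  rwa [show s (inclusion h.norm x) = 1 from hx] at this

theorem card_dvd {n : ℕ} (hn : Fintype.card F = p ^ n) (l : T ≤ S) (e : T ⊓ AA F = ⊥)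
    (k : ∀ x ∈ T, x ^ p = 1) : ♯T ∣ p ∧ ♯T ∣ n := by
  obtain ⟨s, hs⟩ := h.exists_hom
  have i : Function.Injective (s.comp (inclusion l)) := (injective_iff_map_eq_one _).2 fun x hx =>
    Subtype.ext (e.le ⟨x.2, hs hx⟩)
  have := Chev.isCyclic_ringAut (F := F)
  obtain ⟨x, rfl⟩ := Cyc.exists_gen (H := T) (isCyclic_of_injective _ i)
  exact ⟨Nat.card_zpowers x ▸ orderOf_dvd_of_pow_eq_one (k x (mem_zpowers x)),
    Chev.card_ringAut hn ▸ card_dvd_of_injective _ i⟩

theorem fx_eq (hx : x ∈ cj g (AA F) ⊓ AA F) (x1 : x ≠ 1) : fx F (cj g (AA F)) = fx F (AA F : Subgroup H) :=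
  AddSubgroup.ext fun v => ⟨fun k => h.nt.rt.fix x hx.2 x1 v (k x hx.1),
    fun k => (h.nt.rt.cj g).fix x hx.1 x1 v (k x hx.2)⟩

theorem wc (l : cj g (AA F) ≤ S) : cj g (AA F) = AA F := by
  by_cases e : cj g (AA F) ⊓ AA F = ⊥
  · obtain ⟨n, -, hn⟩ := FiniteField.card F p
    obtain ⟨-, d⟩ := h.card_dvd hn l e fun x hx => EE_pow ((h.nt.rt.cj g).le_EE hx)
    rw [card_cj, h.nt.card_AA, Nat.card_eq_fintype_card, hn] at d
    exact absurd (Nat.le_of_dvd n.pos d) (Nat.lt_pow_self hp.out.one_lt).not_ge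
  · obtain ⟨x, hx, x1⟩ := exists_mem_ne_one e
    exact eq_of_card_eq (fun y hy => h.mem_of_fix (l hy) fun u hu => (h.fx_eq hx x1).ge hu y hy)
      (card_cj _ _)

theorem EE_le : EE (fx F (AA F : Subgroup H)) ≤ (AA F : Subgroup H) := fun x hx => by
  obtain ⟨g, -, l⟩ := h.syl.syl_cj_le le_top (EE_pi (fx F (AA F : Subgroup H)))
  have e := h.wc ((cj_mono g h.nt.rt.le_EE).trans l)
  rw [← conj_mem_cj (g := g), e]
  refine h.mem_of_fix (l (conj_mem_cj.2 hx)) fun u hu => ?_
  rw [← e, ← smul_inv_smul g u, smul_mem_fx] at hu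
  rw [mul_smul, mul_smul, hx.2 _ hu, smul_inv_smul]

theorem eq_of_fx (e : fx F (cj g (AA F)) = fx F (AA F : Subgroup H)) : cj g (AA F) = AA F :=
  eq_of_card_eq ((e ▸ (h.nt.rt.cj g).le_EE).trans h.EE_le) (card_cj _ _)

theorem four (ne : cj g (AA F) ≠ AA F) (i : fx F (cj g (AA F)) ⊓ fx F (AA F : Subgroup H) ≠ ⊥) :
    Fintype.card F = 4 := by
  obtain ⟨g, ne, m⟩ := Set.exists_max_image {g : H | cj g (AA F) ≠ AA F}
    (fun g => Nat.card ↥(fx F (cj g (AA F)) ⊓ fx F (AA F : Subgroup H))) (Set.toFinite _) ⟨g, ne⟩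
  replace i := (AddSubgroup.one_lt_card_iff_ne_bot _ |>.2 i).trans_le (m _ ‹_›)
  have r := h.nt.rt.cj g
  have ti : cj g (AA F) ⊓ AA F = ⊥ := by_contra fun e =>
    let ⟨x, hx, x1⟩ := exists_mem_ne_one e; ne (h.eq_of_fx (h.fx_eq hx x1))
  obtain ⟨w, hw, wB⟩ : ∃ w ∈ fx F (AA F : Subgroup H), w ∉ fx F (cj g (AA F)) := by
    by_contra! k
    exact ne (h.eq_of_fx (AddSubgroup.eq_of_le_of_card_ge k (card_fx_cj _ _).le).symm)
  have ex := fun x (hx : x ∈ cj g (AA F)) => EE_pow (p := p) (r.le_EE hx)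
  have cB : ∀ a ∈ 𝐍 (AA F : Subgroup H), cj a (cj g (AA F)) ⊓ AA F = ⊥ := fun a ha => by
    conv_lhs => rw [← cj_of_norm ha, ← cj_inf, cj_of_norm ha, ti, cj_bot]
  generalize cj g (AA F) = B at *
  have key : ∀ u : ↥(fx F B ⊓ fx F (AA F : Subgroup H)), ∃ b : ↥(B ⊓ 𝐍 (AA F : Subgroup H)),
      (b : H) • w - w = u := fun u => by
    obtain ⟨b, hb, e⟩ := r.reg w wB u u.2.1
    refine ⟨⟨b, hb, cj_eq_self.1 (by_contra fun k => (m b k).not_gt ?_)⟩, e⟩
    have l : fx F B ⊓ fx F (AA F : Subgroup H) ≤ fx F (cj b (AA F)) ⊓ fx F (AA F : Subgroup H) :=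
      fun v hv => ⟨hv.1 b hb ▸ smul_mem_fx.2 hv.2, hv.2⟩
    refine (AddSubgroup.card_le_of_le l).lt_of_ne fun j => wB ?_
    have m1 : b • w ∈ fx F (cj b (AA F)) ⊓ fx F (AA F : Subgroup H) :=
      ⟨smul_mem_fx.2 hw, by rw [← sub_add_cancel (b • w) w, e]; exact add_mem u.2.2 hw⟩
    have := (fx F B).sub_mem ((AddSubgroup.eq_of_le_of_card_ge l j.ge).ge m1).1 u.2.1
    rwa [← e, sub_sub_cancel] at this
  choose φ hφ using key
  have c1 := Nat.card_le_card_of_injective φ fun u v e => Subtype.ext (by rw [← hφ, ← hφ, e])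
  have nS : S ≤ 𝐍 (AA F : Subgroup H) := h.inf ▸ norm_inf (le_norm_self S) h.norm
  obtain ⟨a, ha, l⟩ := (h.syl.of_le nS le_top).syl_cj_le (inf_le_right (a := B))
    (piGrp_of_forall_elt fun x hx => piElt_of_pow_eq_one hp.out (ex x hx.1))
  obtain ⟨n, -, hn⟩ := FiniteField.card F p
  obtain ⟨d1, d2⟩ := h.card_dvd hn l (BG.eq_bot_mono (cB a ha) (inf_le_inf_right _
    (cj_mono a inf_le_left))) fun x hx => by
    obtain ⟨y, hy, rfl⟩ := mem_cj_iff.1 hx
    rw [conj_pow, ex y hy.1, mul_one, mul_inv_cancel]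
  rw [card_cj] at d1 d2
  have e1 := ((Nat.dvd_prime hp.out).1 d1).resolve_left (by omega)
  obtain ⟨b, hb, b1⟩ := exists_mem_ne_one (H := B ⊓ 𝐍 (AA F : Subgroup H)) fun e => by
    rw [e, card_bot] at c1; omega
  let f : fx F (AA F : Subgroup H) →+ ↥(fx F B ⊓ fx F (AA F : Subgroup H)) := AddMonoidHom.mk'
    (fun u => ⟨b • u.1 - u, r.quad b hb.1 _, (fx F _).sub_mem (by
      have := (smul_mem_fx (g := b)).2 u.2
      rwa [cj_of_norm hb.2] at this) u.2⟩)
    fun u v => Subtype.ext (by simp only [AddSubgroup.coe_add, smul_add]; abel)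
  have c2 := f.ker.card_mul_index
  have c3 : f.ker.index ≤ p := by
    rw [AddSubgroup.index_ker]; exact ((AddSubgroup.card_le_card_addGroup _).trans c1).trans e1.le
  have c4 : Nat.card f.ker ≤ p := (Nat.card_le_card_of_injective
    (fun u : f.ker => (⟨u.1, r.fix b hb.1 b1 _ (sub_eq_zero.1 (congrArg Subtype.val u.2)), u.1.2⟩ :
      ↥(fx F B ⊓ fx F (AA F : Subgroup H)))) fun u v e =>
    Subtype.ext (Subtype.ext (Subtype.mk.inj e))).trans (c1.trans e1.le)
  have c5 := Nat.mul_le_mul c4 c3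
  rw [c2, h.nt.card_fx, Nat.card_eq_fintype_card, hn, ← pow_two,
    Nat.pow_le_pow_iff_right hp.out.one_lt] at c5
  have c6 := Nat.le_of_dvd n.pos (e1 ▸ d2)
  have c7 := hp.out.two_le
  rw [hn, show (n : ℕ) = 2 by omega, show p = 2 by omega]; rfl

theorem normal (k : Fintype.card F ≠ 4) : ι.range.Normal := by
  have a : ∀ g, cj g (AA F) ≤ ι.range := fun g => by
    obtain ⟨l, e⟩ := exists_SL (u := g • (![1, 0] : Fin 2 → F))
      (by rw [Ne, smul_eq_zero_iff_eq]; simp)
    have m : (![1, 0] : Fin 2 → F) ∈ fx F (AA F : Subgroup H) := h.nt.mem_fx.2 rfl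
    have : cj (ι l * g) (AA F) = AA F := by_contra fun j => k (h.four j fun i => by
      have := i.le ⟨by rw [← e, ← h.nt, ← mul_smul]; exact smul_mem_fx.2 m, m⟩
      simp at this)
    rw [← cj_cj, cj_eq_iff] at this
    exact this ▸ cj_le_of_mem (inv_mem ⟨l, rfl⟩) h.nt.AA_le
  refine ⟨?_⟩
  rintro _ ⟨l, rfl⟩ g
  induction l using Classical.SL_transvection_induction with
  | hmul A B ha hb =>
    have := mul_mem ha hb
    rwa [map_mul, ← conj_mul]
  | htransvec i j ij c =>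
    fin_cases i <;> fin_cases j
    · exact (ij rfl).elim
    · exact a g (conj_mem_cj.2 (h.nt.mem_AA.2 ⟨c, rfl⟩))
    · have := a (g * ι (ww F)) (conj_mem_cj.2 (h.nt.mem_AA.2 ⟨-c, rfl⟩))
      have e : ww F * tv (-c) * (ww F)⁻¹ = SpecialLinearGroup.transvection ij c := by
        rw [mul_inv_eq_iff_eq_mul]
        refine Subtype.ext ?_
        change !![0, 1; -1, 0] * (1 + single 0 1 (-c)) = (1 + single 1 0 c) * !![0, 1; -1, 0]
        ext i j
        fin_cases i <;> fin_cases j <;> simp [Matrix.mul_apply, one_apply]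
      rw [← e, map_mul, map_mul, map_inv]
      convert this using 1
      group
    · exact (ij rfl).elim

theorem card_dvd_eight (k : Fintype.card F = 4) (p2 : p = 2) : ♯S ∣ 8 := by
  obtain ⟨s, hs⟩ := h.exists_hom
  have c1 := BG.card_dvd hs
  rw [card_subgroupOf' h.le, h.nt.card_AA, Nat.card_eq_fintype_card (α := F), k] at c1
  have c2 := card_subgroup_dvd_card s.range
  rw [Chev.card_ringAut (p := p) (f := 2) (by rw [k, p2]; rfl), ← index_ker] at c2
  rw [← s.ker.card_mul_index]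
  exact Nat.mul_dvd_mul c1 c2

theorem pCore_eq_bot : Cfsg.pCore p H = ⊥ := by
  obtain ⟨n, -, hn⟩ := FiniteField.card F p
  obtain ⟨v, hv, v0⟩ := (Solv.pCore_isPGroup (p := p) (G := H)).exists_fixed_point_of_prime_dvd_card_of_fixed_point
    (Fin 2 → F) (by
      rw [Nat.card_fun, Nat.card_eq_fintype_card, hn]
      exact (dvd_pow_self p n.ne_zero).trans (dvd_pow_self _ (by simp))) (a := 0)
    fun x => smul_zero _
  have m : ∀ g : H, g • v ∈ fx F (Cfsg.pCore p H) := fun g => by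
    have := (smul_mem_fx (g := g) (B := Cfsg.pCore p H)).2 fun x hx => hv ⟨x, hx⟩
    rwa [cj_of_norm ((normalIn_top.2 inferInstance).norm (mem_top g))] at this
  refine eq_bot_iff.2 fun x hx => eq_of_smul_eq_smul fun w : Fin 2 → F => ?_
  by_cases e : w = 0
  · rw [e, smul_zero, smul_zero]
  obtain ⟨a, ha⟩ := exists_SL v0.symm
  obtain ⟨b, hb⟩ := exists_SL e
  have := m ((ι b)⁻¹ * ι a) x hx
  rwa [mul_smul, h.nt, ha, ← hb, ← h.nt, inv_smul_smul, ← one_smul H w, smul_smul, mul_one] at this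

end St

theorem seven {L : Subgroup H} {f : H →* alternatingGroup (Fin 8)} (hf : Function.Injective f)
    (e : L ≃* alternatingGroup (Fin 5)) (s : Syl 2 S ⊤) (n : S ≤ 𝐍 L) (c : ♯S ∣ 8)
    (o : Cfsg.pCore 2 H = ⊥) (k : ¬ L.Normal) : Nonempty (H ≃* alternatingGroup (Fin 7)) := by
  have sL : IsSimpleGroup L := e.isSimpleGroup
  have cL : ♯L = 60 := by
    rw [Nat.card_congr e.toEquiv, nat_card_alternatingGroup, Nat.card_fin]; rfl
  have cH : Nat.card H ∣ 20160 := by
    have := card_dvd_of_injective f hf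
    rwa [nat_card_alternatingGroup, Nat.card_fin] at this
  have sm : ∀ K : Subgroup H, L ≤ 𝐍 K → L ≤ K ∨ K ⊓ L = ⊥ := fun K nK => by
    rcases sL.eq_bot_or_eq_top_of_normal _ (normalIn_inf_right nK).normal with j | j
    · exact .inr (by rwa [inf_subgroupOf_right, subgroupOf_eq_bot, disjoint_iff] at j)
    · exact .inl (by rwa [inf_subgroupOf_right, subgroupOf_eq_top] at j)
  have h7 : 7 ∣ Nat.card H := by_contra fun h7 => k (by
    have i1 := s.idx_of_le n
    rw [relIndex_top_right, piNat_compl_single Nat.prime_two] at i1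
    obtain ⟨m, hm⟩ := card_dvd (le_norm_self L)
    have i2 := (𝐍 L).card_mul_index
    have i3 : (𝐍 L).index ∣ 3 := by
      have j1 : (𝐍 L).index ∣ 2 ^ 4 * 3 * 7 := Nat.dvd_of_mul_dvd_mul_left (by decide : 0 < 60)
        (Dvd.dvd.trans ⟨m, by rw [← i2, hm, cL]; ring⟩ cH)
      have j2 : ¬ 7 ∣ (𝐍 L).index := fun j => h7 (j.trans (index_dvd_card _))
      exact (((Nat.prime_two.coprime_iff_not_dvd.2 i1).symm.pow_right 4).dvd_of_dvd_mul_left
        ((Nat.prime_seven.coprime_iff_not_dvd.2 j2).symm.dvd_of_dvd_mul_right j1))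
    have i4 := (Invol.index_normalCore_dvd_factorial (𝐍 L)).trans
      (Nat.factorial_dvd_factorial (Nat.le_of_dvd three_pos i3))
    have nK := normalIn_top.2 (𝐍 L).normalCore_normal
    have l1 := (sm _ (le_top.trans nK.norm)).resolve_right fun j => by
      have := card_inf_mul_relIndex (𝐍 L).normalCore L
      rw [j, card_bot, one_mul, cL] at this
      have := this ▸ (relIndex_dvd_index_of_normal (𝐍 L).normalCore L).trans i4
      exact absurd this (by decide)
    refine normalIn_top.1 ⟨le_top, fun g _ => cj_eq_self.1 ?_⟩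
    have l2 : L ≤ 𝐍 (cj g L) := by
      rw [← cj_norm]
      exact l1.trans ((cj_of_norm (nK.norm (mem_top g))).ge.trans (cj_mono g (normalCore_le _)))
    refine (eq_of_card_eq ((sm _ l2).resolve_right fun j => ?_) (card_cj _ _).symm).symm
    have := (card_subgroup_dvd_card (cj g L ⊔ L)).trans cH
    rw [card_sup_of_inf_bot (.inr l2) j, card_cj, cL] at this
    exact absurd this (by decide))
  have := Fact.mk Nat.prime_two
  let j := MonoidHom.ofInjective (f := (alternatingGroup _).subtype.comp f)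
    ((alternatingGroup _).subtype_injective.comp hf)
  have hs : ¬ Group.IsSolvable ((alternatingGroup _).subtype.comp f).range := fun _ =>
    absurd (IsSimpleGroup.comm_iff_isSolvable.2 (Group.isSolvable_of_isSolvable_injective
      (f := j.toMonoidHom.comp (L.subtype.comp e.symm.toMonoidHom))
      (j.injective.comp (L.subtype_injective.comp e.symm.injective)))
      ⟨Equiv.swap 0 1 * Equiv.swap 1 2, Equiv.Perm.mem_alternatingGroup.2 (by decide)⟩
      ⟨Equiv.swap 0 1 * Equiv.swap 1 3, Equiv.Perm.mem_alternatingGroup.2 (by decide)⟩)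
      (by decide)
  have hA : ((alternatingGroup _).subtype.comp f).range ≤ alternatingGroup _ := by
    rintro _ ⟨x, rfl⟩; exact (f x).2
  have ec := Nat.card_congr j.toEquiv
  have := Known.simple_seven hA (ec ▸ h7) (by rw [← Solv.pCore_map_equiv j, o, Subgroup.map_bot]) hs
  have sH : IsSimpleGroup H := j.isSimpleGroup
  rcases ec ▸ Known.card_seven hA (ec ▸ h7) hs with r | r | r
  · exact absurd (r ▸ cL ▸ card_subgroup_dvd_card L) (by decide)
  · exact Small.alt_seven_of_card r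
  · exact absurd ((s.dvd_card (n := 2 ^ 4) (by rw [card_top, r]; decide)
      (piNat_pow_self Nat.prime_two 4)).trans c) (by decide)

theorem main (h : Nt ι) (s : Syl p S ⊤) (n : S ≤ 𝐍 ι.range) :
    ι.range.Normal ∨ (Fintype.card F = 4 ∧ Nonempty (H ≃* alternatingGroup (Fin 7))) := by
  obtain ⟨g, hg, l⟩ := (s.of_le n le_top).syl_le_cj (h.AA_le.trans (le_norm_self _)) (h.syl (p := p)).pi
  have t : St p ι (cj g S) := ⟨h, s.cj_top g, cj_le_of_mem hg n, l⟩
  by_cases k : Fintype.card F = 4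
  · by_cases m : ι.range.Normal
    · exact .inl m
    obtain ⟨n, -, hn⟩ := FiniteField.card F p
    obtain rfl : p = 2 := (Nat.prime_dvd_prime_iff_eq hp.out Nat.prime_two).1
      (hp.out.dvd_of_dvd_pow (n := 2) (by rw [show 2 ^ 2 = 4 from rfl, ← k, hn]; exact dvd_pow_self p n.ne_zero))
    obtain ⟨e1⟩ := Fgs2.nonempty_mulAut_equiv_GL (V := Multiplicative (Fin 2 → F)) (p := 2) (r := 4)
      (fun x => (pow_two _).trans (funext fun _ => CharTwo.add_self_eq_zero _)) (by simp [k])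
    obtain ⟨e2⟩ := Known.gl_four_two
    obtain ⟨e3⟩ := Classical.SL2_four_equiv (F := F) (by rw [Nat.card_eq_fintype_card, k])
    let φ : H →* MulAut (Multiplicative (Fin 2 → F)) := MonoidHom.mk'
      (fun x => AddEquiv.toMultiplicative (DistribMulAction.toAddEquiv (Fin 2 → F) x))
      fun x y => MulEquiv.ext fun v => mul_smul x y v.toAdd
    have i : Function.Injective φ := fun x y e => eq_of_smul_eq_smul fun v : Fin 2 → F =>
      DFunLike.congr_fun e (Multiplicative.ofAdd v)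
    exact .inr ⟨k, seven (f := ((e1.trans e2).toMonoidHom.comp φ)) ((e1.trans e2).injective.comp i)
      ((MonoidHom.ofInjective h.inj).symm.trans e3) t.syl t.norm (t.card_dvd_eight k rfl)
      t.pCore_eq_bot m⟩
  · exact .inl (t.normal k)

end CF.NatL
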